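import Groth.Agent.UnipLib.Split
import Groth.Agent.AffGrp.Bridge
import Groth.Agent.RedPts.Basic
import Groth.Agent.GaGm.Kernel
import Groth.Agent.MultType.Diag
import Groth.Agent.FpqcDesc.Props
import Groth.Prelude.Def_Red
import Mathlib.RingTheory.Finiteness.Descent

/-! An affine model of a torus over a field, with its characters over a splitting field. -/

set_option autoImplicit false
set_option linter.style.haveILetI false

universe u

open CategoryTheory CategoryTheory.Limits AlgebraicGeometry MonoidalCategory CartesianMonoidalCategory MonObj WithConv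
open scoped TensorProduct

noncomputable section

namespace Groth.Agent.TorusFld

open Groth.Agent.UnipLib Groth.Agent.RedPts Groth.Agent.GaGm

variable {K : Type u} [Field K]

theorem isAffine_of_split (L : Type u) [Field L] [Algebra K L] {M : Type} [AddCommGroup M]
    (T : Over (Spec (CommRingCat.of K))) [GrpObj T]
    (h : Red.IsSplitTorusWith M (Red.bc (Spec.map (CommRingCat.ofHom (algebraMap K L))) T)) : IsAffine T.left := by
  obtain ⟨e⟩ := h
  let f := Spec.map (CommRingCat.ofHom (algebraMap K L))
  let e' : Red.bc f T ≅ Red.DS (Spec (CommRingCat.of L)) M := (Grp.forget _).mapIso e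
  haveI : IsAffine (Red.diag (ULift.{u} ℤ) M).left := inferInstanceAs (IsAffine (Spec _))
  haveI hd : IsAffineHom (Red.DS (Spec (CommRingCat.of L)) M).hom := by
    show IsAffineHom (pullback.snd _ _)
    infer_instance
  haveI : IsIso e'.hom.left := inferInstanceAs (IsIso ((Over.forget _).map e'.hom))
  have hs : IsAffineHom (pullback.snd T.hom f) := by
    show IsAffineHom (Red.bc f T).hom
    rw [← Over.w e'.hom]
    infer_instance
  haveI : Flat f := (HasRingHomProperty.Spec_iff (P := @Flat)).2 (by
    exact RingHom.flat_algebraMap_iff.2 inferInstance)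
  haveI : Surjective f := ⟨fun x => ⟨IsLocalRing.closedPoint L, Subsingleton.elim _ _⟩⟩
  have := FpqcDesc.descendsAlong_isAffineHom.{u}
  haveI : IsAffineHom T.hom := MorphismProperty.of_pullback_snd_of_descendsAlong
    (P := @IsAffineHom) (Q := FpqcDesc.FPQC) (g := f) ⟨⟨inferInstance, inferInstance⟩, inferInstance⟩ hs
  exact isAffine_of_isAffineHom T.hom

section Model

variable (L : Type u) [Field L] [Algebra K L] {A : Type u} [CommRing A] [HopfAlgebra K A]
  (T : Over (Spec (CommRingCat.of K))) [GrpObj T] (e : (Spec (CommRingCat.of A)).asOver (Spec (CommRingCat.of K)) ≅ T) [IsMonHom e.hom]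


attribute [local instance] algOf

variable {M : Type} [AddCommGroup M]

/-- The L-scheme as a K-scheme. -/
abbrev down (X : Over (Spec (CommRingCat.of L))) : Over (Spec (CommRingCat.of K)) := (Over.map (Spec.map (CommRingCat.ofHom (algebraMap K L)))).obj X

theorem downEquiv_mul (X : Over (Spec (CommRingCat.of L))) (a b : down (K := K) L X ⟶ T) :
    (Over.mapPullbackAdj (Spec.map (CommRingCat.ofHom (algebraMap K L)))).homEquiv X T (a * b) =
      (Over.mapPullbackAdj (Spec.map (CommRingCat.ofHom (algebraMap K L)))).homEquiv X T a * (Over.mapPullbackAdj (Spec.map (CommRingCat.ofHom (algebraMap K L)))).homEquiv X T b := by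
  rw [Adjunction.homEquiv_unit, Functor.map_mul, MonObj.comp_mul, ← Adjunction.homEquiv_unit, ← Adjunction.homEquiv_unit]

variable (e' : Grp.mk (Red.bc (Spec.map (CommRingCat.ofHom (algebraMap K L))) T) ≅ Grp.mk (Red.DS (Spec (CommRingCat.of L)) M))

/-- The character values of a point. -/
def chiFn (X : Over (Spec (CommRingCat.of L))) (f : WithConv (A →ₐ[K] Γ((down (K := K) L X).left, ⊤))) (m : M) : Γ(X.left, ⊤) :=
  dFn ((Over.mapPullbackAdj (Spec.map (CommRingCat.ofHom (algebraMap K L)))).homEquiv X T (ptHom (down (K := K) L X) f ≫ e.hom) ≫ e'.hom.hom.hom) m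

theorem chiFn_mul (X : Over (Spec (CommRingCat.of L))) (f g : WithConv (A →ₐ[K] Γ((down (K := K) L X).left, ⊤))) (m : M) :
    chiFn L T e e' X (f * g) m = chiFn L T e e' X f m * chiFn L T e e' X g m := by
  let a : Red.bc (Spec.map (CommRingCat.ofHom (algebraMap K L))) T ⟶ Red.DS (Spec (CommRingCat.of L)) M := e'.hom.hom.hom
  haveI : IsMonHom a := e'.hom.hom.isMonHom_hom
  show dFn (_ ≫ a) m = _
  have key : ∀ x y : X ⟶ Red.bc (Spec.map (CommRingCat.ofHom (algebraMap K L))) T, (x * y) ≫ a = (x ≫ a) * (y ≫ a) := fun x y => MonObj.mul_comp x y a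
  rw [ptHom_mul, MonObj.mul_comp, downEquiv_mul, key, d_mul]
  rfl

theorem chiFn_add (X : Over (Spec (CommRingCat.of L))) (f : WithConv (A →ₐ[K] Γ((down (K := K) L X).left, ⊤))) (m n : M) :
    chiFn L T e e' X f (m + n) = chiFn L T e e' X f m * chiFn L T e e' X f n := d_add _ m n

theorem chiFn_zero (X : Over (Spec (CommRingCat.of L))) (f : WithConv (A →ₐ[K] Γ((down (K := K) L X).left, ⊤))) :
    chiFn L T e e' X f 0 = 1 := d_zero _

theorem chiFn_one (X : Over (Spec (CommRingCat.of L))) (m : M) : chiFn L T e e' X 1 m = 1 := by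
  have h := chiFn_mul L T e e' X 1 1 m
  rw [_root_.mul_one] at h
  exact ((d_isUnit _ m).mul_left_cancel (h.symm.trans (_root_.mul_one _).symm))

theorem chiFn_comp {X X' : Over (Spec (CommRingCat.of L))} (h : X' ⟶ X) (f : WithConv (A →ₐ[K] Γ((down (K := K) L X).left, ⊤)))
    (g : WithConv (A →ₐ[K] Γ((down (K := K) L X').left, ⊤))) (hg : ∀ a, g a = h.left.appTop (f a)) (m : M) :
    chiFn L T e e' X' g m = h.left.appTop (chiFn L T e e' X f m) := by
  rw [chiFn, chiFn, ← d_comp, ← comp_ptHom ((Over.map (Spec.map (CommRingCat.ofHom (algebraMap K L)))).map h) f g hg, Category.assoc, Adjunction.homEquiv_naturality_left]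
  rfl

theorem chiFn_injective (X : Over (Spec (CommRingCat.of L))) : Function.Injective (chiFn L T e e' X) := by
  intro f g h
  haveI : IsIso e'.hom.hom.hom := ⟨e'.inv.hom.hom, congr($(e'.hom_inv_id).hom.hom), congr($(e'.inv_hom_id).hom.hom)⟩
  exact ptHom_injective _ ((cancel_mono e.hom).1 (((Over.mapPullbackAdj (Spec.map (CommRingCat.ofHom (algebraMap K L)))).homEquiv X T).injective
    ((cancel_mono e'.hom.hom.hom).1 (d_ext fun m => congrFun h m))))

theorem chiFn_surjective (X : Over (Spec (CommRingCat.of L))) (t : Multiplicative M →* Γ(X.left, ⊤)) :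
    ∃ f, ∀ m, chiFn L T e e' X f m = t (Multiplicative.ofAdd m) := by
  obtain ⟨x, hx⟩ := d_surjective (S := Spec (CommRingCat.of L)) (X := X) t
  obtain ⟨f, hf⟩ := ptHom_surjective (A := A) (down (K := K) L X) (((Over.mapPullbackAdj (Spec.map (CommRingCat.ofHom (algebraMap K L)))).homEquiv X T).symm (x ≫ e'.inv.hom.hom) ≫ e.inv)
  refine ⟨f, fun m => ?_⟩
  rw [chiFn, hf, Category.assoc, Iso.inv_hom_id, Category.comp_id, Equiv.apply_symm_apply, Category.assoc,
    show e'.inv.hom.hom ≫ e'.hom.hom.hom = 𝟙 _ from congr($(e'.inv_hom_id).hom.hom), Category.comp_id, hx]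

variable (R : Type u) [CommRing R] [Algebra K R] [Algebra L R] [IsScalarTower K L R]

/-- Functions on the spectrum of an L-algebra, over K. -/
def fnK : R →ₐ[K] Γ((down (K := K) L (specK (K := L) R)).left, ⊤) :=
  { (fnB (K := L) R) with
    commutes' := fun c => by
      show fnB (K := L) R (algebraMap K R c) = _
      rw [IsScalarTower.algebraMap_apply K L R, fnB_algebraMap]
      show _ = (down (K := K) L (specK (K := L) R)).hom.appTop ((Scheme.ΓSpecIso (CommRingCat.of K)).inv c)
      simp only [Over.map_obj_hom, Scheme.Hom.comp_appTop]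
      exact congrArg (fun z => (specK (K := L) R).hom.appTop z)
        (congr($(Scheme.ΓSpecIso_inv_naturality (CommRingCat.ofHom (algebraMap K L))) c)) }

/-- The character values of an R-point, in R. -/
def chiR (f : A →ₐ[K] R) (m : M) : R :=
  (Equiv.ofBijective _ (fnB_bijective (K := L) R)).symm (chiFn L T e e' _ (toConv ((fnK L R).comp f)) m)

theorem fnB_chiR (f : A →ₐ[K] R) (m : M) :
    fnB (K := L) R (chiR L T e e' R f m) = chiFn L T e e' _ (toConv ((fnK L R).comp f)) m :=
  (Equiv.ofBijective _ (fnB_bijective (K := L) R)).apply_symm_apply _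

theorem chiR_natural {R' : Type u} [CommRing R'] [Algebra K R'] [Algebra L R'] [IsScalarTower K L R']
    (r : R →ₐ[L] R') (f : A →ₐ[K] R) (m : M) :
    chiR L T e e' R' ((r.restrictScalars K).comp f) m = r (chiR L T e e' R f m) := by
  let h : specK (K := L) R' ⟶ specK (K := L) R := Over.homMk (Spec.map (CommRingCat.ofHom r.toRingHom)) (by
    show Spec.map _ ≫ Spec.map _ = Spec.map _
    rw [← Spec.map_comp, ← CommRingCat.ofHom_comp]
    exact congrArg (fun t => Spec.map (CommRingCat.ofHom t)) r.comp_algebraMap)
  have hh : ∀ x : R, h.left.appTop (fnB (K := L) R x) = fnB (K := L) R' (r x) := fun x =>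
    congr($(Scheme.ΓSpecIso_inv_naturality (CommRingCat.ofHom r.toRingHom)) x).symm
  apply (fnB_bijective (K := L) R').1
  rw [fnB_chiR, ← hh, fnB_chiR]
  exact chiFn_comp L T e e' h _ _ (fun a => (hh (f a)).symm) m

theorem chiR_injective : Function.Injective (chiR (A := A) L T e e' R) := by
  intro f g h
  have : toConv ((fnK L R).comp f) = toConv ((fnK L R).comp g) := chiFn_injective L T e e' _ (funext fun m => by
    rw [← fnB_chiR, ← fnB_chiR, h])
  exact AlgHom.ext fun a => (fnB_bijective (K := L) R).1 (congr($(congrArg WithConv.ofConv this) a))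

theorem chiR_surjective (t : Multiplicative M →* R) : ∃ f : A →ₐ[K] R, ∀ m, chiR L T e e' R f m = t (Multiplicative.ofAdd m) := by
  obtain ⟨g, hg⟩ := chiFn_surjective L T e e' (specK (K := L) R) ((fnB (K := L) R).toMonoidHom.comp t)
  let E := AlgEquiv.ofBijective (fnK (K := K) L R) (fnB_bijective (K := L) R)
  refine ⟨E.symm.toAlgHom.comp g.ofConv, fun m => ?_⟩
  apply (fnB_bijective (K := L) R).1
  rw [fnB_chiR]
  refine Eq.trans ?_ (hg m)
  congr 1
  exact WithConv.ofConv_injective (AlgHom.ext fun a => E.apply_symm_apply (g.ofConv a))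

theorem chiR_one (m : M) : chiR L T e e' R ((Algebra.ofId K R).comp (Bialgebra.counitAlgHom K A)) m = 1 := by
  apply (fnB_bijective (K := L) R).1
  rw [fnB_chiR, map_one]
  refine Eq.trans ?_ (chiFn_one L T e e' _ m)
  congr 1
  exact WithConv.ofConv_injective (AlgHom.ext fun a => (fnK L R).commutes _)

theorem chiR_mul (f g : A →ₐ[K] R) (m : M) :
    chiR L T e e' R ((Algebra.TensorProduct.lift f g fun _ _ => Commute.all _ _).comp (Bialgebra.comulAlgHom K A)) m =
      chiR L T e e' R f m * chiR L T e e' R g m := by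
  apply (fnB_bijective (K := L) R).1
  rw [map_mul, fnB_chiR, fnB_chiR, fnB_chiR, ← chiFn_mul]
  congr 1
  apply WithConv.ofConv_injective
  refine AlgHom.ext fun a => ?_
  rw [AlgHom.convMul_apply]
  show fnK L R (Algebra.TensorProduct.lift f g (fun _ _ => Commute.all _ _) (Coalgebra.comul a)) = _
  generalize Coalgebra.comul (R := K) a = z
  induction z using TensorProduct.induction_on with
  | zero => simp
  | add x y hx hy => simp only [map_add, hx, hy]
  | tmul x y => simp

include e e' in
/-- The characters give a basis of group-like elements over the splitting field. -/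
theorem exists_chars : ∃ φ : Multiplicative M →* L ⊗[K] A, (∀ m, IsGroupLikeElem L (φ m)) ∧
    Function.Bijective (MonoidAlgebra.lift L (L ⊗[K] A) (Multiplicative M) φ) := by
  let B := L ⊗[K] A
  let iA : A →ₐ[K] B := Algebra.TensorProduct.includeRight
  let φ : Multiplicative M →* B :=
    { toFun := fun m => chiR L T e e' B iA m.toAdd
      map_one' := (fnB_bijective (K := L) B).1 (by rw [toAdd_one, fnB_chiR, chiFn_zero, RingHom.map_one])
      map_mul' := fun a b => (fnB_bijective (K := L) B).1 (by rw [toAdd_mul, RingHom.map_mul, fnB_chiR, fnB_chiR, fnB_chiR, chiFn_add]) }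
  refine ⟨φ, fun m => ⟨?_, ?_⟩, ?_⟩
  · have h := chiR_natural L T e e' B (Bialgebra.counitAlgHom L B) iA m.toAdd
    rw [show ((Bialgebra.counitAlgHom L B).restrictScalars K).comp iA = (Algebra.ofId K L).comp (Bialgebra.counitAlgHom K A) from
      AlgHom.ext fun a => by simp [iA, B, Algebra.smul_def, Algebra.ofId_apply], chiR_one] at h
    exact h.symm
  · have h := chiR_natural L T e e' B (Bialgebra.comulAlgHom L B) iA m.toAdd
    let il : B →ₐ[L] B ⊗[L] B := Algebra.TensorProduct.includeLeft
    let ir : B →ₐ[L] B ⊗[L] B := Algebra.TensorProduct.includeRight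
    rw [show ((Bialgebra.comulAlgHom L B).restrictScalars K).comp iA =
      (Algebra.TensorProduct.lift ((il.restrictScalars K).comp iA) ((ir.restrictScalars K).comp iA) fun _ _ => Commute.all _ _).comp
        (Bialgebra.comulAlgHom K A) from AlgHom.ext fun a => by
          show Coalgebra.comul (R := L) ((1 : L) ⊗ₜ[K] a) = Algebra.TensorProduct.lift ((il.restrictScalars K).comp iA) ((ir.restrictScalars K).comp iA) (fun _ _ => Commute.all _ _) (Coalgebra.comul (R := K) a)
          rw [TensorProduct.comul_tmul, CommSemiring.comul_apply]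
          generalize Coalgebra.comul (R := K) a = z
          induction z using TensorProduct.induction_on with
          | zero => simp
          | add x y hx hy => simp only [TensorProduct.tmul_add, map_add, hx, hy]
          | tmul x y => simp [il, ir, iA, B]] at h
    rw [chiR_mul, chiR_natural, chiR_natural] at h
    exact h.symm.trans (Algebra.TensorProduct.tmul_mul_tmul _ _ _ _ |>.trans (by simp [φ]))
  · let LM := MonoidAlgebra L (Multiplicative M)
    obtain ⟨f, hf⟩ := chiR_surjective L T e e' LM (A := A) (MonoidAlgebra.of L (Multiplicative M))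
    let r : B →ₐ[L] LM := Algebra.TensorProduct.lift (Algebra.ofId L LM) f fun _ _ => Commute.all _ _
    let ψ : LM →ₐ[L] B := MonoidAlgebra.lift L B (Multiplicative M) φ
    have hrι : (r.restrictScalars K).comp iA = f := AlgHom.ext fun a => by
      show r ((1 : L) ⊗ₜ[K] a) = f a
      rw [Algebra.TensorProduct.lift_tmul, map_one, _root_.one_mul]
    have hr : ∀ m, r (φ m) = MonoidAlgebra.of L (Multiplicative M) m := fun m => by
      refine ((chiR_natural L T e e' B r iA m.toAdd).symm.trans ?_)
      rw [hrι, hf]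
      rfl
    have h1 : r.comp ψ = AlgHom.id L LM := MonoidAlgebra.algHom_ext (fun m => by
      show r (ψ (MonoidAlgebra.single m 1)) = MonoidAlgebra.single m 1
      rw [show ψ (MonoidAlgebra.single m 1) = φ m from MonoidAlgebra.lift_of φ m, hr]; rfl) (Subsingleton.elim _ _)
    have h2 : ψ.comp r = AlgHom.id L B := by
      have h3 : ((ψ.comp r).restrictScalars K).comp iA = iA := chiR_injective L T e e' B (funext fun m => by
        rw [chiR_natural]
        show ψ (r (φ (Multiplicative.ofAdd m))) = φ (Multiplicative.ofAdd m)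
        rw [hr]
        exact MonoidAlgebra.lift_of φ _)
      exact Algebra.TensorProduct.ext (Subsingleton.elim _ _) h3
    exact (AlgEquiv.ofAlgHom ψ r h2 h1).bijective

end Model

end Groth.Agent.TorusFld
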