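import Groth.Agent.TorusFld.Lattice
import Mathlib.RingTheory.RootsOfUnity.Basic
import Mathlib.LinearAlgebra.Matrix.Adjugate

/-!
# Torsion rational points of anisotropic tori
-/

set_option autoImplicit false
set_option linter.style.haveILetI false

universe u

open CategoryTheory CategoryTheory.Limits AlgebraicGeometry MonoidalCategory CartesianMonoidalCategory MonObj WithConv
open scoped TensorProduct Matrix

noncomputable section

namespace Groth.Agent.TorusFld

open Groth.Agent.UnipLib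

variable {K : Type u} [Field K]

attribute [local instance] algOf

/-- Characters of rational points of a torus. -/
structure PtData {n : ℕ} (T : Over (Spec (CommRingCat.of K))) [GrpObj T] where
  /-- field of values -/
  N : Type u
  [fN : Field N]
  [aN : Algebra K N]
  /-- values of characters -/
  chi : (𝟙_ (Over (Spec (CommRingCat.of K))) ⟶ T) →* (Multiplicative (Fin n → ℤ) →* N)
  chi_inj : Function.Injective chi
  /-- Galois image -/
  H : Subgroup (Matrix.GeneralLinearGroup (Fin n) ℤ)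
  finH : Finite H
  equivariant : ∀ x, ∀ h ∈ H, ∀ m : Fin n → ℤ, chi x (Multiplicative.ofAdd m) ∈ Set.range (algebraMap K N) →
    chi x (Multiplicative.ofAdd ((h : Matrix (Fin n) (Fin n) ℤ) *ᵥ m)) = chi x (Multiplicative.ofAdd m)
  mono : ∀ [Fintype H] (m : Fin n → ℤ), ∑ h : H, ((h : Matrix.GeneralLinearGroup (Fin n) ℤ) : Matrix (Fin n) (Fin n) ℤ) *ᵥ m ≠ 0 →
    ∃ i : Red.Gm (Spec (CommRingCat.of K)) ⟶ T, IsMonHom i ∧ Mono i

attribute [instance] PtData.fN PtData.aN

theorem sum_mulVec_invariant {n : ℕ} (H : Subgroup (Matrix.GeneralLinearGroup (Fin n) ℤ)) [Fintype H]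
    {g : Matrix.GeneralLinearGroup (Fin n) ℤ} (hg : g ∈ H) (v : Fin n → ℤ) :
    ∑ h : H, ((h : Matrix.GeneralLinearGroup (Fin n) ℤ) : Matrix (Fin n) (Fin n) ℤ) *ᵥ ((g : Matrix (Fin n) (Fin n) ℤ) *ᵥ v) =
      ∑ h : H, ((h : Matrix.GeneralLinearGroup (Fin n) ℤ) : Matrix (Fin n) (Fin n) ℤ) *ᵥ v :=
  Fintype.sum_equiv (Equiv.mulRight ⟨g, hg⟩) _ _ fun h => by simp [Matrix.mulVec_mulVec]

theorem card_nthRootsFinset_le {N : Type*} [Field N] (e : ℕ) : (Polynomial.nthRootsFinset e (1 : N)).card ≤ e := by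
  classical
  rw [Polynomial.nthRootsFinset_def]
  exact (Multiset.toFinset_card_le _).trans (Polynomial.card_nthRoots e 1)

theorem exists_ptData (n : ℕ) (T : Over (Spec (CommRingCat.of K))) [GrpObj T]
    (hT : ∃ (L : Type u) (_ : Field L) (_ : Algebra K L),
      Red.IsSplitTorusWith (Fin n → ℤ) (Red.bc (Spec.map (CommRingCat.ofHom (algebraMap K L))) T)) :
    Nonempty (PtData (n := n) T) := by
  classical
  obtain ⟨L, _, _, hsplit⟩ := hT
  haveI : IsAffine T.left := isAffine_of_split L T hsplit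
  obtain ⟨A, hA, e, he⟩ := AffGrp.Bridge.exists_iso (R := CommRingCat.of K) T
  letI : HopfAlgebra K A := hA
  haveI : IsMonHom e.hom := he
  obtain ⟨e'⟩ := hsplit
  obtain ⟨φ, hφ, hbij⟩ := exists_chars L (A := A) T e e'
  obtain ⟨D⟩ := exists_galData L φ hφ hbij
  let pt := 𝟙_ (Over (Spec (CommRingCat.of K)))
  have hof : Function.Bijective (Algebra.ofId K Γ(pt.left, ⊤)) := by
    have h2 : Function.Bijective (Scheme.Hom.appTop pt.hom) :=
      (Equiv.refl Γ(Spec (CommRingCat.of K), ⊤)).bijective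
    exact h2.comp (Scheme.ΓSpecIso (CommRingCat.of K)).symm.commRingCatIsoToRingEquiv.bijective
  let ε := AlgEquiv.ofBijective (Algebra.ofId K Γ(pt.left, ⊤)) hof
  let F : WithConv (A →ₐ[K] K) →* (pt ⟶ T) :=
    MonoidHom.mk' (fun f => ptHom pt (toConv (ε.toAlgHom.comp f.ofConv)) ≫ e.hom) fun f g => by
      rw [← MonObj.mul_comp, ← ptHom_mul]
      congr 2
      apply WithConv.ofConv_injective
      refine AlgHom.ext fun a => ?_
      show ε.toAlgHom ((f * g).ofConv a) = _
      rw [AlgHom.convMul_apply, AlgHom.convMul_apply]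
      generalize Coalgebra.comul (R := K) a = z
      induction z using TensorProduct.induction_on with
      | zero => simp
      | add x y hx hy => simp only [map_add, hx, hy]
      | tmul x y => simp
  have hF : Function.Bijective F := by
    refine ⟨fun f g h => ?_, fun x => ?_⟩
    · have h1 := congrArg WithConv.ofConv (ptHom_injective pt ((cancel_mono e.hom).1 h))
      exact WithConv.ofConv_injective (AlgHom.ext fun a => ε.injective congr($h1 a))
    · obtain ⟨f, hf⟩ := ptHom_surjective (A := A) pt (x ≫ e.inv)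
      refine ⟨toConv (ε.symm.toAlgHom.comp f.ofConv), ?_⟩
      show ptHom pt _ ≫ e.hom = x
      have : toConv (ε.toAlgHom.comp (ε.symm.toAlgHom.comp f.ofConv)) = f :=
        WithConv.ofConv_injective (AlgHom.ext fun a => ε.apply_symm_apply _)
      rw [this, hf, Category.assoc, Iso.inv_hom_id, Category.comp_id]
  let Ψ := (MulEquiv.ofBijective F hF).symm
  refine ⟨{ N := D.N, chi := D.chi.comp Ψ.toMonoidHom, chi_inj := D.chi_injective.comp Ψ.injective,
            H := D.rep.range, finH := (Set.finite_range D.rep).to_subtype, equivariant := ?_, mono := ?_ }⟩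
  · rintro x _ ⟨σ, rfl⟩ m ⟨c, hc⟩
    show D.chi (Ψ x) _ = D.chi (Ψ x) _
    rw [D.rep_mulVec, D.chi_act]
    change algebraMap K D.N c = D.chi (Ψ x) _ at hc
    rw [← hc, AlgEquiv.commutes]
  · intro _ m hm
    obtain ⟨j, hj⟩ := Function.ne_iff.1 hm
    let l : (Fin n → ℤ) →+ ℤ :=
      { toFun := fun v => (∑ h : D.rep.range, ((h : Matrix.GeneralLinearGroup (Fin n) ℤ) : Matrix (Fin n) (Fin n) ℤ) *ᵥ v) j
        map_zero' := by simp
        map_add' := fun a b => by simp [Matrix.mulVec_add, Finset.sum_add_distrib] }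
    have hl : ∀ σ v, l (D.act σ v) = l v := fun σ v => by
      refine congrFun ?_ j
      rw [← D.rep_mulVec]
      exact sum_mulVec_invariant D.rep.range (MonoidHom.mem_range.2 ⟨σ, rfl⟩) v
    obtain ⟨c, hc⟩ := Int.subgroup_cyclic l.range
    rw [← AddSubgroup.zmultiples_eq_closure] at hc
    have hc0 : c ≠ 0 := by
      rintro rfl
      have : l m ∈ l.range := ⟨m, rfl⟩
      rw [hc, AddSubgroup.zmultiples_zero_eq_bot, AddSubgroup.mem_bot] at this
      exact hj (this.trans rfl)
    have hdiv : ∀ v, c ∣ l v := fun v => by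
      have : l v ∈ l.range := ⟨v, rfl⟩
      rw [hc, Int.mem_zmultiples_iff] at this
      exact this
    let l' : (Fin n → ℤ) →+ ℤ :=
      { toFun := fun v => l v / c
        map_zero' := by simp
        map_add' := fun a b => by rw [map_add, Int.add_ediv_of_dvd_left (hdiv a)] }
    have hl' : ∀ σ v, l' (D.act σ v) = l' v := fun σ v => by
      show l _ / c = l _ / c
      rw [hl]
    have hsurj : Function.Surjective l' := fun z => by
      obtain ⟨v, hv⟩ : c ∈ l.range := hc ▸ AddSubgroup.mem_zmultiples c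
      refine ⟨z • v, ?_⟩
      rw [map_zsmul, show l' v = 1 from by show l v / c = 1; rw [hv, Int.ediv_self hc0], smul_eq_mul, _root_.mul_one]
    exact D.exists_mono l' hl' T e hsurj

namespace PtData

variable {n : ℕ} {T : Over (Spec (CommRingCat.of K))} [GrpObj T] (D : PtData (n := n) T)

theorem chi_pow (x : 𝟙_ (Over (Spec (CommRingCat.of K))) ⟶ T) (d : ℕ) (m : Multiplicative (Fin n → ℤ)) :
    D.chi (x ^ d) m = D.chi x m ^ d := by rw [map_pow]; rfl

theorem pow_eq_one_iff (x : 𝟙_ (Over (Spec (CommRingCat.of K))) ⟶ T) (d : ℕ) :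
    x ^ d = 1 ↔ ∀ m, D.chi x m ^ d = 1 := by
  rw [← D.chi_inj.eq_iff, map_one, MonoidHom.ext_iff]
  simp only [chi_pow, MonoidHom.one_apply]

theorem mem_range_of_pow_eq_one {N : Type*} [Field N] [Algebra K N] {d : ℕ} (hd : 0 < d)
    (hsp : (Polynomial.X ^ d - 1 : Polynomial K).Splits) {z : N} (hz : z ^ d = 1) : z ∈ Set.range (algebraMap K N) := by
  have h := hsp.eq_prod_roots_of_monic (Polynomial.monic_X_pow_sub_C (1 : K) hd.ne' |> fun h => by simpa using h)
  have h0 : Polynomial.aeval z (Polynomial.X ^ d - 1 : Polynomial K) = 0 := by simp [hz]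
  rw [h, map_multiset_prod, Multiset.prod_eq_zero_iff, Multiset.map_map] at h0
  obtain ⟨c, -, hc⟩ := Multiset.mem_map.1 h0
  simp only [Function.comp_apply, map_sub, Polynomial.aeval_X, Polynomial.aeval_C, sub_eq_zero] at hc
  exact ⟨c, hc.symm⟩

theorem chi_ne_zero (x : 𝟙_ (Over (Spec (CommRingCat.of K))) ⟶ T) (m : Multiplicative (Fin n → ℤ)) : D.chi x m ≠ 0 :=
  ((Group.isUnit m).map (D.chi x)).ne_zero

/-- Galois invariance of torsion points. -/
theorem chi_mulVec {x : 𝟙_ (Over (Spec (CommRingCat.of K))) ⟶ T} {d : ℕ} (hd : 0 < d) (hx : x ^ d = 1)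
    (hsp : (Polynomial.X ^ d - 1 : Polynomial K).Splits) {h : Matrix.GeneralLinearGroup (Fin n) ℤ} (hh : h ∈ D.H) (m : Fin n → ℤ) :
    D.chi x (Multiplicative.ofAdd ((h : Matrix (Fin n) (Fin n) ℤ) *ᵥ m)) = D.chi x (Multiplicative.ofAdd m) :=
  D.equivariant x h hh m (mem_range_of_pow_eq_one hd hsp ((D.pow_eq_one_iff x d).1 hx _))

theorem pow_card_eq_one [Fintype D.H]
    (htr : ∀ m : Fin n → ℤ, ∑ h : D.H, ((h : Matrix.GeneralLinearGroup (Fin n) ℤ) : Matrix (Fin n) (Fin n) ℤ) *ᵥ m = 0)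
    {x : 𝟙_ (Over (Spec (CommRingCat.of K))) ⟶ T} {d : ℕ} (hd : 0 < d) (hx : x ^ d = 1)
    (hsp : (Polynomial.X ^ d - 1 : Polynomial K).Splits) : x ^ Fintype.card D.H = 1 := by
  rw [D.pow_eq_one_iff]
  intro m
  obtain ⟨m, rfl⟩ := Multiplicative.ofAdd.surjective m
  have h := congrArg (fun v => D.chi x (Multiplicative.ofAdd v)) (htr m)
  simp only [ofAdd_sum, map_prod, ofAdd_zero, map_one] at h
  rw [← h, Finset.prod_congr rfl fun (y : D.H) _ => D.chi_mulVec hd hx hsp y.2 m, Finset.prod_const, Finset.card_univ]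

theorem pow_det_eq_one {x : 𝟙_ (Over (Spec (CommRingCat.of K))) ⟶ T} {d : ℕ} (hd : 0 < d) (hx : x ^ d = 1)
    (hsp : (Polynomial.X ^ d - 1 : Polynomial K).Splits) {h : Matrix.GeneralLinearGroup (Fin n) ℤ} (hh : h ∈ D.H) :
    x ^ ((h : Matrix (Fin n) (Fin n) ℤ) - 1).det.natAbs = 1 := by
  rw [D.pow_eq_one_iff]
  intro m
  obtain ⟨m, rfl⟩ := Multiplicative.ofAdd.surjective m
  set A := (h : Matrix (Fin n) (Fin n) ℤ) - 1 with hA
  let v := A.adjugate *ᵥ m
  have hv : A.det • m = (h : Matrix (Fin n) (Fin n) ℤ) *ᵥ v - v := by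
    rw [show (h : Matrix (Fin n) (Fin n) ℤ) *ᵥ v - v = A *ᵥ v by simp [hA, Matrix.sub_mulVec], Matrix.mulVec_mulVec,
      Matrix.mul_adjugate, Matrix.smul_mulVec, Matrix.one_mulVec]
  have h1 : D.chi x (Multiplicative.ofAdd (A.det • m + v)) = D.chi x (Multiplicative.ofAdd v) := by
    rw [hv, sub_add_cancel, D.chi_mulVec hd hx hsp hh]
  rw [ofAdd_add, map_mul, mul_left_eq_self₀, or_iff_left (D.chi_ne_zero x _), ofAdd_zsmul] at h1
  obtain hn | hn := Int.natAbs_eq A.det
  · rw [hn, zpow_natCast, map_pow] at h1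
    exact h1
  · rw [hn, zpow_neg, zpow_natCast] at h1
    have h2 : D.chi x ((Multiplicative.ofAdd m) ^ A.det.natAbs)⁻¹ * D.chi x ((Multiplicative.ofAdd m) ^ A.det.natAbs) = 1 := by
      rw [← map_mul, inv_mul_cancel, map_one]
    rw [h1, _root_.one_mul, map_pow] at h2
    exact h2

include D in
theorem natCast_orderOf_ne_zero (x : 𝟙_ (Over (Spec (CommRingCat.of K))) ⟶ T) (hx : IsOfFinOrder x) :
    ((orderOf x : ℕ) : K) ≠ 0 := by
  intro h0
  obtain ⟨p, hp⟩ := CharP.exists K
  have hpd : p ∣ orderOf x := (CharP.cast_eq_zero_iff K p _).1 h0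
  have hpos := hx.orderOf_pos
  rcases CharP.char_is_prime_or_zero K p with hprime | rfl
  swap
  · exact hpos.ne' (zero_dvd_iff.1 hpd)
  haveI : Fact p.Prime := ⟨hprime⟩
  haveI : CharP D.N p := charP_of_injective_algebraMap (algebraMap K D.N).injective p
  obtain ⟨k, hk⟩ := hpd
  have : x ^ k = 1 := (D.pow_eq_one_iff x k).2 fun m => by
    have h1 := (D.pow_eq_one_iff x _).1 (pow_orderOf_eq_one x) m
    rw [hk, _root_.mul_comm, pow_mul] at h1
    exact frobenius_inj D.N p (by simpa [frobenius_def] using h1)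
  have hk0 : 0 < k := Nat.pos_of_ne_zero fun h => by rw [h, mul_zero] at hk; omega
  have hle := Nat.le_of_dvd hk0 (orderOf_dvd_of_pow_eq_one this)
  have h2 : k < p * k := lt_mul_left hk0 hprime.one_lt
  omega

include D in
theorem card_le (G : Subgroup (𝟙_ (Over (Spec (CommRingCat.of K))) ⟶ T)) {e : ℕ} (he : 0 < e)
    (hG : ∀ x ∈ G, x ^ e = 1) : Finite G → Nat.card G ≤ e ^ n := by
  classical
  intro _
  let muN := Polynomial.nthRootsFinset e (1 : D.N)
  let F : G → (Fin n → muN) := fun x i =>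
    ⟨D.chi x.1 (Multiplicative.ofAdd (Pi.single i 1)),
      (Polynomial.mem_nthRootsFinset he (1 : D.N)).2 ((D.pow_eq_one_iff x.1 e).1 (hG x.1 x.2) _)⟩
  have hF : Function.Injective F := fun x y h => by
    refine Subtype.ext (D.chi_inj (MonoidHom.ext fun m => ?_))
    obtain ⟨m, rfl⟩ := Multiplicative.ofAdd.surjective m
    rw [← Finset.univ_sum_single m, ofAdd_sum, map_prod, map_prod]
    refine Finset.prod_congr rfl fun i _ => ?_
    have hi : D.chi x.1 (Multiplicative.ofAdd (Pi.single i 1)) = D.chi y.1 (Multiplicative.ofAdd (Pi.single i 1)) :=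
      congrArg Subtype.val (congrFun h i)
    have hs : Multiplicative.ofAdd (Pi.single i (m i) : Fin n → ℤ) = Multiplicative.ofAdd (Pi.single i 1 : Fin n → ℤ) ^ m i := by
      rw [← ofAdd_zsmul, ← Pi.single_smul, smul_eq_mul, _root_.mul_one]
    have hz : ∀ (χ : Multiplicative (Fin n → ℤ) →* D.N) a (j : ℤ), χ (a ^ j) = χ a ^ j := fun χ a j => by
      rw [← MonoidHom.coe_toHomUnits χ, map_zpow, Units.val_zpow_eq_zpow_val, MonoidHom.coe_toHomUnits]
    rw [hs, hz, hz, hi]
  calc Nat.card G ≤ Nat.card (Fin n → muN) := Nat.card_le_card_of_injective F hF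
    _ = muN.card ^ n := by simp [Nat.card_eq_fintype_card]
    _ ≤ e ^ n := Nat.pow_le_pow_left (card_nthRootsFinset_le e) n

end PtData

end Groth.Agent.TorusFld
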