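import Mathlib.LinearAlgebra.Matrix.GeneralLinearGroup.Defs
import Mathlib.LinearAlgebra.Matrix.Determinant.Basic
import Mathlib.GroupTheory.OrderOfElement

/-!
# Finite subgroups of `GL₂(ℤ)` without fixed vectors
-/

set_option autoImplicit false

open scoped Matrix

namespace Groth.Agent.TorusFld

theorem det_sub_one_bound (A : Matrix (Fin 2) (Fin 2) ℤ) (hdet : A.det = 1) {m : ℕ} (hm : 0 < m) (hA : A ^ m = 1)
    (hne : A ≠ 1) : 0 < (A - 1).det ∧ (A - 1).det ≤ 4 := by
  rw [Matrix.det_fin_two] at hdet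
  have hd : (A - 1).det = 2 - (A 0 0 + A 1 1) := by
    simp [Matrix.det_fin_two, Matrix.sub_apply]
    linarith
  rw [hd]
  by_contra hcon
  set t := A 0 0 + A 1 1 with ht
  have hsq : A * A = t • A - 1 := by
    ext i j
    rw [Matrix.mul_apply, Fin.sum_univ_two, Matrix.sub_apply, Matrix.smul_apply, smul_eq_mul]
    fin_cases i <;> fin_cases j <;> simp [Matrix.one_apply] <;> rw [ht] <;> linarith
  have ht2 : 2 ≤ |t| := by
    rcases le_or_gt 2 t with h | h
    · exact le_trans h (le_abs_self t)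
    · exact le_trans (by omega : (2 : ℤ) ≤ -t) (neg_le_abs t)
  have key : ∀ k : ℕ, ∃ a b : ℤ, A ^ (k + 1) = a • A + b • 1 ∧ |b| < |a| := by
    intro k
    induction k with
    | zero => exact ⟨1, 0, by simp, by simp⟩
    | succ k ih =>
      obtain ⟨a, b, hk, hab⟩ := ih
      refine ⟨a * t + b, -a, ?_, ?_⟩
      · rw [pow_succ, hk, add_mul, Matrix.smul_mul, hsq, Matrix.smul_mul, Matrix.one_mul, smul_sub, smul_smul, add_smul,
          neg_smul]
        abel
      · rw [abs_neg]
        have h1 : 2 * |a| ≤ |a * t| := by rw [abs_mul]; nlinarith [abs_nonneg a]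
        have h2 := abs_sub_abs_le_abs_add (a * t) b
        omega
  obtain ⟨a, b, hk, hab⟩ := key (m - 1)
  rw [Nat.sub_add_cancel hm, hA] at hk
  have ha : a ≠ 0 := by rintro rfl; simp at hab; linarith [abs_nonneg b]
  have h01 := congr_fun (congr_fun hk 0) 1
  have h10 := congr_fun (congr_fun hk 1) 0
  have h00 := congr_fun (congr_fun hk 0) 0
  have h11 := congr_fun (congr_fun hk 1) 1
  simp only [Matrix.add_apply, Matrix.smul_apply, smul_eq_mul, Matrix.one_apply, Fin.zero_eq_one_iff, Fin.one_eq_zero_iff,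
    OfNat.ofNat_ne_one, if_false, if_true, mul_zero, add_zero, mul_one, zero_eq_mul] at h01 h10 h00 h11
  replace h01 : A 0 1 = 0 := by simpa [ha] using h01
  replace h10 : A 1 0 = 0 := by simpa [ha] using h10
  have heq : A 0 0 = A 1 1 := mul_left_cancel₀ ha (by linarith)
  rw [h01, ← heq] at hdet
  have h1 : A 0 0 = 1 ∨ A 0 0 = -1 := Int.eq_one_or_neg_one_of_mul_eq_one (by rw [zero_mul, sub_zero] at hdet; exact hdet)
  rcases h1 with h1 | h1
  · apply hne
    ext i j
    have h11' : A 1 1 = 1 := heq ▸ h1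
    fin_cases i <;> fin_cases j <;> simp [h1, h11', h01, h10]
  · apply hcon
    rw [ht, ← heq, h1]
    norm_num

theorem exists_small_det (H : Subgroup (Matrix.GeneralLinearGroup (Fin 2) ℤ)) [Fintype H]
    (htr : ∀ m : Fin 2 → ℤ, ∑ h : H, ((h : Matrix.GeneralLinearGroup (Fin 2) ℤ) : Matrix (Fin 2) (Fin 2) ℤ) *ᵥ m = 0) :
    ∃ h ∈ H, 0 < ((h : Matrix (Fin 2) (Fin 2) ℤ) - 1).det.natAbs ∧ ((h : Matrix (Fin 2) (Fin 2) ℤ) - 1).det.natAbs ≤ 4 := by
  classical
  suffices hex : ∃ h ∈ H, h ≠ 1 ∧ (h : Matrix (Fin 2) (Fin 2) ℤ).det = 1 by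
    obtain ⟨h, hh, hne, hdet⟩ := hex
    have hfin : IsOfFinOrder (⟨h, hh⟩ : H) := isOfFinOrder_of_finite _
    have hpow : (h : Matrix (Fin 2) (Fin 2) ℤ) ^ orderOf (⟨h, hh⟩ : H) = 1 := by
      rw [← Units.val_pow_eq_pow_val, show h ^ orderOf (⟨h, hh⟩ : H) = 1 from congrArg Subtype.val (pow_orderOf_eq_one (⟨h, hh⟩ : H)),
        Units.val_one]
    obtain ⟨h1, h2⟩ := det_sub_one_bound _ hdet hfin.orderOf_pos hpow (fun h' => hne (Units.ext h'))
    exact ⟨h, hh, by omega, by omega⟩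
  by_contra hcon
  push Not at hcon
  have hdet : ∀ h ∈ H, h ≠ 1 → (h : Matrix (Fin 2) (Fin 2) ℤ).det = -1 := fun h hh hne =>
    (Int.isUnit_iff.1 ((Matrix.isUnit_iff_isUnit_det _).1 h.isUnit)).resolve_left (hcon h hh hne)
  have huniq : ∀ a b : H, a ≠ 1 → b ≠ 1 → a = b := by
    have hprod : ∀ a b : H, a ≠ 1 → b ≠ 1 → a * b = 1 := fun a b ha hb => by
      by_contra hab
      have h' := hdet _ (a * b).2 (fun h => hab (Subtype.ext h))
      rw [Subgroup.coe_mul, Units.val_mul, Matrix.det_mul, hdet _ a.2 (fun h => ha (Subtype.ext h)),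
        hdet _ b.2 (fun h => hb (Subtype.ext h))] at h'
      norm_num at h'
    intro a b ha hb
    exact (inv_eq_of_mul_eq_one_right (hprod a a ha ha)).symm.trans (inv_eq_of_mul_eq_one_right (hprod a b ha hb))
  by_cases hex : ∃ a : H, a ≠ 1
  · obtain ⟨a, ha⟩ := hex
    have huniv : (Finset.univ : Finset H) = {1, a} := by
      ext x
      by_cases hx : x = 1 <;> simp [hx, huniq x a] <;> exact huniq x a hx ha
    have hneg : ((a : Matrix.GeneralLinearGroup (Fin 2) ℤ) : Matrix (Fin 2) (Fin 2) ℤ) = -1 := by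
      refine Matrix.ext_of_mulVec_single fun j => ?_
      have := htr (Pi.single j 1)
      rw [huniv, Finset.sum_pair (Ne.symm ha), Subgroup.coe_one, Units.val_one, Matrix.one_mulVec] at this
      rw [Matrix.neg_mulVec, Matrix.one_mulVec]
      exact eq_neg_of_add_eq_zero_right this
    have := hdet _ a.2 (fun h => ha (Subtype.ext h))
    rw [hneg] at this
    simp [Matrix.det_fin_two] at this
  · push Not at hex
    have := htr (Pi.single 0 1)
    rw [Finset.sum_eq_card_nsmul (b := (Pi.single 0 1 : Fin 2 → ℤ)) fun x _ => by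
      rw [hex x, Subgroup.coe_one, Units.val_one, Matrix.one_mulVec]] at this
    simpa [Fintype.card_ne_zero] using congr_fun this 0

end Groth.Agent.TorusFld
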