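import Groth.Agent.TorusFld.Chars
import Groth.Agent.GaGm.Quotient
import Groth.Agent.MultType.FieldSplit
import Mathlib.FieldTheory.Normal.Closure
import Mathlib.FieldTheory.IsSepClosed
import Mathlib.LinearAlgebra.Matrix.GeneralLinearGroup.Defs

/-!
# Rational points of a torus over a field and its character lattice
-/

set_option autoImplicit false
set_option linter.style.haveILetI false

universe u

open CategoryTheory CategoryTheory.Limits AlgebraicGeometry MonoidalCategory CartesianMonoidalCategory MonObj WithConv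
open scoped TensorProduct Matrix

noncomputable section

namespace Groth.Agent.TorusFld

open Groth.Agent.UnipLib Groth.Agent.MultType.GroupLike

variable {K : Type u} [Field K] {A : Type u} [CommRing A] [HopfAlgebra K A]

attribute [local instance] algOf

theorem span_bcMap {N N' : Type u} [Field N] [Algebra K N] [Field N'] [Algebra K N'] (h : N →ₐ[K] N')
    {s : Set (N ⊗[K] A)} (hs : Submodule.span N s = ⊤) : Submodule.span N' (bcMap h A '' s) = ⊤ := by
  refine eq_top_iff.2 fun z hz' => ?_
  clear hz'
  induction z using TensorProduct.induction_on with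
  | zero => exact zero_mem _
  | add x y hx hy => exact add_mem hx hy
  | tmul t a =>
    have h1 : ∀ w ∈ Submodule.span N s, bcMap h A w ∈ Submodule.span N' (bcMap h A '' s) := fun w hw => by
      induction hw using Submodule.span_induction with
      | mem x hx => exact Submodule.subset_span ⟨x, hx, rfl⟩
      | zero => rw [map_zero]; exact zero_mem _
      | add x y _ _ hx hy => rw [map_add]; exact add_mem hx hy
      | smul c x _ hx => rw [MultType.FieldSplit.bcMap_smul]; exact Submodule.smul_mem _ _ hx
    have h2 := Submodule.smul_mem _ t (h1 ((1 : N) ⊗ₜ[K] a) (hs ▸ Submodule.mem_top))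
    simpa [bcMap, TensorProduct.smul_tmul'] using h2

theorem eq_of_span {F B : Type*} [Field F] [CommRing B] [HopfAlgebra F B] {s : Set B}
    (hsub : ∀ z ∈ s, IsGroupLikeElem F z) (hspan : Submodule.span F s = ⊤) : s = {z | IsGroupLikeElem F z} := by
  refine Set.Subset.antisymm hsub fun z hz => ?_
  by_contra hzs
  refine (linearIndep_groupLikeVal (R := F) (A := B)).notMem_span_image
    (s := {g | g.val ∈ s}) (x := ⟨z, hz⟩) hzs (Submodule.span_mono ?_ (hspan ▸ Submodule.mem_top))
  exact fun w hw => ⟨⟨w, hsub w hw⟩, hw, rfl⟩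

theorem groupLike_iff_span {F B : Type*} [Field F] [CommRing B] [HopfAlgebra F B] {M : Type*} [Monoid M]
    (φ : M →* B) (hφ : ∀ m, IsGroupLikeElem F (φ m)) (hs : Submodule.span F (Set.range φ) = ⊤) :
    Set.range φ = {z | IsGroupLikeElem F z} :=
  eq_of_span (by rintro _ ⟨m, rfl⟩; exact hφ m) hs

theorem lift_injective_of {F B : Type*} [Field F] [CommRing B] [HopfAlgebra F B] {M : Type*} [CommMonoid M]
    (φ : M →* B) (hinj : Function.Injective φ) (hφ : ∀ m, IsGroupLikeElem F (φ m)) :
    LinearIndependent F φ :=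
  ((linearIndep_groupLikeVal (R := F) (A := B)).comp (fun m => (⟨φ m, hφ m⟩ : GroupLike F B))
    fun _ _ h => hinj (congrArg GroupLike.val h) :)

/-- The Galois data of a torus. -/
structure GalData (K : Type u) [Field K] (A : Type u) [CommRing A] [HopfAlgebra K A] (n : ℕ) where
  /-- splitting field -/
  N : Type u
  [fN : Field N]
  [aN : Algebra K N]
  [gal : IsGalois K N]
  [fin : FiniteDimensional K N]
  /-- characters -/
  φ : Multiplicative (Fin n → ℤ) →* N ⊗[K] A
  groupLike : ∀ m, IsGroupLikeElem N (φ m)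
  bij : Function.Bijective (MonoidAlgebra.lift N (N ⊗[K] A) (Multiplicative (Fin n → ℤ)) φ)

set_option maxHeartbeats 2000000 in
set_option synthInstance.maxHeartbeats 400000 in
theorem exists_galData (L : Type u) [Field L] [Algebra K L] {n : ℕ}
    (φ : Multiplicative (Fin n → ℤ) →* L ⊗[K] A) (hφ : ∀ m, IsGroupLikeElem L (φ m))
    (hbij : Function.Bijective (MonoidAlgebra.lift L (L ⊗[K] A) (Multiplicative (Fin n → ℤ)) φ)) :
    Nonempty (GalData K A n) := by
  classical
  have hspanL : Submodule.span L (Set.range φ) = ⊤ := by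
    refine eq_top_iff.2 fun z hz' => ?_
    clear hz'
    obtain ⟨x, rfl⟩ := hbij.2 z
    induction x using MonoidAlgebra.induction_linear with
    | zero => rw [map_zero]; exact zero_mem _
    | add x y hx hy => rw [map_add]; exact add_mem hx hy
    | single m r => rw [MonoidAlgebra.lift_single]; exact Submodule.smul_mem _ _ (Submodule.subset_span ⟨m, rfl⟩)
  have hinjL : Function.Injective φ := fun a b h => MonoidAlgebra.of_injective (hbij.1 (by
    rw [MonoidAlgebra.lift_of, MonoidAlgebra.lift_of, h]))
  haveI : Algebra.FiniteType L (L ⊗[K] A) := Algebra.FiniteType.of_surjective _ hbij.2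
  haveI : Algebra.FiniteType K A := Algebra.FiniteType.of_finiteType_tensorProduct_of_faithfullyFlat L
  have hspanL' : Submodule.span L {z : L ⊗[K] A | IsGroupLikeElem L z} = ⊤ :=
    eq_top_mono (Submodule.span_mono (by rintro _ ⟨m, rfl⟩; exact hφ m)) hspanL
  obtain ⟨k', _, _, _, _, M', _, -, ⟨e⟩⟩ := MultType.FieldSplit.exists_separable_split
    (MultType.Diag.isMultType_of_diag L (MultType.Diag.isDiag_of_span hspanL')) ‹Algebra.FiniteType K A›
  have hspan' := MultType.Diag.span_of_equiv e
  let Ks := SeparableClosure K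
  let σ : k' →ₐ[K] Ks := IsSepClosed.lift
  let N : IntermediateField K Ks := IntermediateField.normalClosure K k' Ks
  haveI : Algebra.IsSeparable K N := Algebra.isSeparable_tower_bot_of_isSeparable K N Ks
  haveI : IsGalois K N := ⟨⟩
  let σ' : k' →ₐ[K] N := σ.codRestrict N.toSubalgebra fun x => AlgHom.fieldRange_le_normalClosure σ ⟨x, rfl⟩
  let Ω := AlgebraicClosure L
  let τ : N →ₐ[K] Ω := IsAlgClosed.lift
  let lL : L →ₐ[K] Ω := IsScalarTower.toAlgHom K L Ω
  let sN : Set (N ⊗[K] A) := bcMap σ' A '' {z | IsGroupLikeElem k' z}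
  have hsN : Submodule.span N sN = ⊤ := span_bcMap σ' hspan'
  have hgN : sN = {z : N ⊗[K] A | IsGroupLikeElem N z} := eq_of_span (F := N) (B := N ⊗[K] A) (s := sN) (by rintro _ ⟨z, hz, rfl⟩; exact map_isGroupLikeElem σ' hz) hsN
  have hΩ : bcMap τ A '' sN = bcMap lL A '' Set.range φ :=
    (eq_of_span (F := Ω) (B := Ω ⊗[K] A) (s := bcMap τ A '' sN) (by rintro _ ⟨z, hz, rfl⟩; exact map_isGroupLikeElem τ (hgN.subset hz)) (span_bcMap τ hsN)).trans
      (eq_of_span (F := Ω) (B := Ω ⊗[K] A) (s := bcMap lL A '' Set.range φ) (by rintro _ ⟨_, ⟨m, rfl⟩, rfl⟩; exact map_isGroupLikeElem lL (hφ m)) (span_bcMap lL hspanL)).symm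
  have hτinj : Function.Injective (bcMap τ A) :=
    Module.Flat.rTensor_preserves_injective_linearMap τ.toLinearMap τ.toRingHom.injective
  have hlinj : Function.Injective (bcMap lL A) :=
    Module.Flat.rTensor_preserves_injective_linearMap lL.toLinearMap lL.toRingHom.injective
  have hex : ∀ m, ∃ z ∈ sN, bcMap τ A z = bcMap lL A (φ m) := fun m => hΩ.superset ⟨φ m, ⟨m, rfl⟩, rfl⟩
  choose g hg hgm using hex
  let φN : Multiplicative (Fin n → ℤ) →* N ⊗[K] A :=
    { toFun := g
      map_one' := hτinj (by rw [hgm, map_one, map_one, map_one])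
      map_mul' := fun a b => hτinj (by rw [hgm, map_mul, map_mul, map_mul, hgm, hgm]) }
  have hinjN : Function.Injective φN := fun a b h => hinjL (hlinj (by
    rw [← hgm, ← hgm]; exact congrArg _ h))
  have hrange : Set.range φN = sN := Set.Subset.antisymm (by rintro _ ⟨m, rfl⟩; exact hg m) fun z hz => by
    obtain ⟨_, ⟨m, rfl⟩, hm⟩ := hΩ.subset ⟨z, hz, rfl⟩
    exact ⟨m, hτinj ((hgm m).trans hm)⟩
  refine ⟨{ N := N, φ := φN, groupLike := fun m => hgN.subset (hg m), bij := ⟨?_, fun z => ?_⟩ }⟩
  · have hli := lift_injective_of (F := N) (B := N ⊗[K] A) φN hinjN fun m => hgN.subset (hg m)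
    intro x y h
    have hlin : ∀ x, MonoidAlgebra.lift N (N ⊗[K] A) (Multiplicative (Fin n → ℤ)) φN x = Finsupp.linearCombination N φN x.coeff := fun x => by
      induction x using MonoidAlgebra.induction_linear with
      | zero => simp
      | add x y hx hy => rw [map_add, MonoidAlgebra.coeff_add, map_add, hx, hy]
      | single m r => simp
    rw [hlin, hlin] at h
    exact MonoidAlgebra.coeff_injective (hli h)
  · have hz : z ∈ Submodule.span N (Set.range φN) := by rw [hrange, hsN]; trivial
    induction hz using Submodule.span_induction with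
    | mem x hx => obtain ⟨m, rfl⟩ := hx; exact ⟨MonoidAlgebra.of _ _ m, MonoidAlgebra.lift_of _ _⟩
    | zero => exact ⟨0, map_zero _⟩
    | add x y _ _ hx hy => obtain ⟨a, rfl⟩ := hx; obtain ⟨b, rfl⟩ := hy; exact ⟨a + b, map_add _ _ _⟩
    | smul c x _ hx => obtain ⟨a, rfl⟩ := hx; exact ⟨c • a, map_smul _ _ _⟩

attribute [instance] GalData.fN GalData.aN GalData.gal GalData.fin

namespace GalData

variable {n : ℕ} (D : GalData K A n)

theorem injective : Function.Injective D.φ := fun a b h => MonoidAlgebra.of_injective (D.bij.1 (by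
  rw [MonoidAlgebra.lift_of, MonoidAlgebra.lift_of, h]))

theorem range_φ : Set.range D.φ = {z | IsGroupLikeElem D.N z} := by
  refine eq_of_span (by rintro _ ⟨m, rfl⟩; exact D.groupLike m) (eq_top_iff.2 fun z hz' => ?_)
  clear hz'
  obtain ⟨x, rfl⟩ := D.bij.2 z
  induction x using MonoidAlgebra.induction_linear with
  | zero => rw [map_zero]; exact zero_mem _
  | add x y hx hy => rw [map_add]; exact add_mem hx hy
  | single m r => rw [MonoidAlgebra.lift_single]; exact Submodule.smul_mem _ _ (Submodule.subset_span ⟨m, rfl⟩)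

theorem exists_act (σ : D.N ≃ₐ[K] D.N) (m : Fin n → ℤ) : ∃ m', D.φ (Multiplicative.ofAdd m') = bcMap σ.toAlgHom A (D.φ (Multiplicative.ofAdd m)) := by
  obtain ⟨m', hm'⟩ := D.range_φ.superset (map_isGroupLikeElem σ.toAlgHom (D.groupLike (Multiplicative.ofAdd m)))
  exact ⟨m'.toAdd, hm'⟩

/-- Galois action on characters. -/
def act (σ : D.N ≃ₐ[K] D.N) : (Fin n → ℤ) →+ (Fin n → ℤ) where
  toFun m := (D.exists_act σ m).choose
  map_zero' := by
    refine Multiplicative.ofAdd.injective (D.injective ?_)
    rw [(D.exists_act σ 0).choose_spec]; simp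
  map_add' a b := by
    refine Multiplicative.ofAdd.injective (D.injective ?_)
    rw [(D.exists_act σ (a + b)).choose_spec, ofAdd_add, map_mul, map_mul, ofAdd_add, map_mul,
      (D.exists_act σ a).choose_spec, (D.exists_act σ b).choose_spec]

theorem φ_act (σ : D.N ≃ₐ[K] D.N) (m : Fin n → ℤ) :
    D.φ (Multiplicative.ofAdd (D.act σ m)) = bcMap σ.toAlgHom A (D.φ (Multiplicative.ofAdd m)) := (D.exists_act σ m).choose_spec

/-- The representation on the character lattice. -/
def rep : (D.N ≃ₐ[K] D.N) →* Matrix.GeneralLinearGroup (Fin n) ℤ :=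
  MonoidHom.toHomUnits
    { toFun := fun σ => LinearMap.toMatrix' (D.act σ).toIntLinearMap
      map_one' := by
        rw [← LinearMap.toMatrix'_id]
        congr 1
        refine LinearMap.ext fun m => Multiplicative.ofAdd.injective (D.injective ?_)
        show D.φ (Multiplicative.ofAdd (D.act 1 m)) = _
        rw [D.φ_act]
        show Algebra.TensorProduct.map (AlgHom.id K D.N) (AlgHom.id K A) _ = _
        rw [Algebra.TensorProduct.map_id]; rfl
      map_mul' := fun σ τ => by
        rw [← LinearMap.toMatrix'_mul]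
        congr 1
        refine LinearMap.ext fun m => Multiplicative.ofAdd.injective (D.injective ?_)
        show D.φ (Multiplicative.ofAdd (D.act (σ * τ) m)) = D.φ (Multiplicative.ofAdd (D.act σ (D.act τ m)))
        rw [D.φ_act, D.φ_act, D.φ_act]
        generalize D.φ (Multiplicative.ofAdd m) = z
        induction z using TensorProduct.induction_on with
        | zero => simp
        | add x y hx hy => simp only [map_add, hx, hy]
        | tmul t a => simp [bcMap] }

theorem rep_mulVec (σ : D.N ≃ₐ[K] D.N) (m : Fin n → ℤ) :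
    ((D.rep σ : Matrix.GeneralLinearGroup (Fin n) ℤ) : Matrix (Fin n) (Fin n) ℤ) *ᵥ m = D.act σ m := by
  show LinearMap.toMatrix' (D.act σ).toIntLinearMap *ᵥ m = _
  rw [LinearMap.toMatrix'_mulVec]
  rfl

/-- The value of a point on a character. -/
def ev (a : A →ₐ[K] K) : D.N ⊗[K] A →ₐ[D.N] D.N :=
  Algebra.TensorProduct.lift (AlgHom.id D.N D.N) ((Algebra.ofId K D.N).comp a) fun _ _ => Commute.all _ _

theorem ev_tmul (a : A →ₐ[K] K) (t : D.N) (x : A) : D.ev a (t ⊗ₜ[K] x) = t * algebraMap K D.N (a x) := by
  simp [ev, Algebra.ofId_apply]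

theorem ev_bcMap (a : A →ₐ[K] K) (σ : D.N ≃ₐ[K] D.N) (z : D.N ⊗[K] A) : D.ev a (bcMap σ.toAlgHom A z) = σ (D.ev a z) := by
  induction z using TensorProduct.induction_on with
  | zero => simp
  | add x y hx hy => simp only [map_add, hx, hy]
  | tmul t x => simp [bcMap, ev_tmul]

theorem ev_convMul (f g : WithConv (A →ₐ[K] K)) (z : D.N ⊗[K] A) (hz : IsGroupLikeElem D.N z) :
    D.ev (f * g).ofConv z = D.ev f.ofConv z * D.ev g.ofConv z := by
  have key : (D.ev (f * g).ofConv) = (Algebra.TensorProduct.lift (D.ev f.ofConv) (D.ev g.ofConv) fun _ _ => Commute.all _ _).comp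
      (Bialgebra.comulAlgHom D.N (D.N ⊗[K] A)) := by
    refine Algebra.TensorProduct.ext (Subsingleton.elim _ _) (AlgHom.ext fun x => ?_)
    show D.ev (f * g).ofConv ((1 : D.N) ⊗ₜ[K] x) = Algebra.TensorProduct.lift (D.ev f.ofConv) (D.ev g.ofConv)
      (fun _ _ => Commute.all _ _) (Coalgebra.comul (R := D.N) ((1 : D.N) ⊗ₜ[K] x))
    rw [ev_tmul, _root_.one_mul, AlgHom.convMul_apply, TensorProduct.comul_tmul, CommSemiring.comul_apply]
    generalize Coalgebra.comul (R := K) x = w
    induction w using TensorProduct.induction_on with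
    | zero => simp
    | add x y hx hy => simp only [TensorProduct.tmul_add, map_add, hx, hy]
    | tmul x y => simp [ev_tmul]
  rw [key]
  show Algebra.TensorProduct.lift (D.ev f.ofConv) (D.ev g.ofConv) (fun _ _ => Commute.all _ _) (Coalgebra.comul (R := D.N) z) = _
  rw [hz.comul_eq_tmul_self, Algebra.TensorProduct.lift_tmul]

/-- The characters' values of a K-point. -/
def chi : WithConv (A →ₐ[K] K) →* (Multiplicative (Fin n → ℤ) →* D.N) where
  toFun f := (D.ev f.ofConv).toMonoidHom.comp D.φ
  map_one' := by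
    refine MonoidHom.ext fun m => ?_
    show D.ev (1 : WithConv (A →ₐ[K] K)).ofConv (D.φ m) = 1
    refine Eq.trans ?_ (D.groupLike m).counit_eq_one
    generalize D.φ m = z
    induction z using TensorProduct.induction_on with
    | zero => simp
    | add x y hx hy => simp only [map_add, hx, hy]
    | tmul t x => simp [ev_tmul, AlgHom.convOne_def, Algebra.smul_def, Algebra.ofId_apply, _root_.mul_comm]
  map_mul' f g := MonoidHom.ext fun m => D.ev_convMul f g _ (D.groupLike m)

theorem chi_apply (f : WithConv (A →ₐ[K] K)) (m : Fin n → ℤ) :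
    D.chi f (Multiplicative.ofAdd m) = D.ev f.ofConv (D.φ (Multiplicative.ofAdd m)) := rfl

theorem chi_injective : Function.Injective D.chi := fun f g h => by
  have he : D.ev f.ofConv = D.ev g.ofConv := by
    refine AlgHom.ext fun z => ?_
    obtain ⟨x, rfl⟩ := D.bij.2 z
    induction x using MonoidAlgebra.induction_linear with
    | zero => simp
    | add x y hx hy => simp only [map_add, hx, hy]
    | single m r =>
      rw [MonoidAlgebra.lift_single, map_smul, map_smul]
      exact congrArg (r • ·) (congr($h m))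
  refine WithConv.ofConv_injective (AlgHom.ext fun x => (algebraMap K D.N).injective ?_)
  have := congr($he ((1 : D.N) ⊗ₜ[K] x))
  simpa [ev_tmul] using this

theorem chi_act (f : WithConv (A →ₐ[K] K)) (σ : D.N ≃ₐ[K] D.N) (m : Fin n → ℤ) :
    D.chi f (Multiplicative.ofAdd (D.act σ m)) = σ (D.chi f (Multiplicative.ofAdd m)) := by
  rw [chi_apply, φ_act, ev_bcMap, chi_apply]

section Mono

variable (l : (Fin n → ℤ) →+ ℤ) (hl : ∀ σ m, l (D.act σ m) = l m)

/-- The cocharacter over the splitting field. -/
def lamN : D.N ⊗[K] A →ₐ[D.N] LaurentPolynomial D.N :=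
  (MonoidAlgebra.lift D.N (LaurentPolynomial D.N) (Multiplicative (Fin n → ℤ))
    { toFun := fun m => LaurentPolynomial.T (l m.toAdd)
      map_one' := by rw [toAdd_one, map_zero, LaurentPolynomial.T_zero]
      map_mul' := fun a b => by rw [toAdd_mul, map_add, LaurentPolynomial.T_add] }).comp
    (AlgEquiv.ofBijective (MonoidAlgebra.lift D.N (D.N ⊗[K] A) (Multiplicative (Fin n → ℤ)) D.φ) D.bij).symm.toAlgHom

theorem lamN_φ (m : Fin n → ℤ) : D.lamN l (D.φ (Multiplicative.ofAdd m)) = LaurentPolynomial.T (l m) := by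
  have h : (AlgEquiv.ofBijective (MonoidAlgebra.lift D.N (D.N ⊗[K] A) (Multiplicative (Fin n → ℤ)) D.φ) D.bij).symm
      (D.φ (Multiplicative.ofAdd m)) = MonoidAlgebra.of _ _ (Multiplicative.ofAdd m) := by
    rw [AlgEquiv.symm_apply_eq, AlgEquiv.ofBijective_apply, MonoidAlgebra.lift_of]
  simp only [lamN, AlgHom.comp_apply, AlgEquiv.toAlgHom_eq_coe, AlgEquiv.coe_toAlgHom, h]
  exact MonoidAlgebra.lift_of _ _

/-- Change of coefficients. -/
def coeffMap {P Q : Type u} [CommRing P] [CommRing Q] (f : P →+* Q) : LaurentPolynomial P →+* LaurentPolynomial Q :=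
  AddMonoidAlgebra.mapRingHom ℤ f

theorem coeffMap_C_mul_T {P Q : Type u} [CommRing P] [CommRing Q] (f : P →+* Q) (a : P) (j : ℤ) :
    coeffMap f (LaurentPolynomial.C a * LaurentPolynomial.T j) = LaurentPolynomial.C (f a) * LaurentPolynomial.T j := by
  simp [coeffMap, ← LaurentPolynomial.single_eq_C_mul_T]

include hl in
theorem lamN_bcMap (σ : D.N ≃ₐ[K] D.N) (z : D.N ⊗[K] A) :
    D.lamN l (bcMap σ.toAlgHom A z) = coeffMap σ.toAlgHom.toRingHom (D.lamN l z) := by
  obtain ⟨x, rfl⟩ := D.bij.2 z
  induction x using MonoidAlgebra.induction_linear with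
  | zero => simp
  | add x y hx hy => simp only [map_add, hx, hy]
  | single m r =>
    obtain ⟨m, rfl⟩ := Multiplicative.ofAdd.surjective m
    rw [MonoidAlgebra.lift_single, MultType.FieldSplit.bcMap_smul, ← D.φ_act, map_smul, lamN_φ, map_smul, lamN_φ,
      LaurentPolynomial.smul_eq_C_mul, LaurentPolynomial.smul_eq_C_mul, coeffMap_C_mul_T, hl]
    rfl

include hl in
theorem exists_descended : ∃ ψ : A →ₐ[K] LaurentPolynomial K, ∀ x,
    coeffMap (algebraMap K D.N) (ψ x) = D.lamN l ((1 : D.N) ⊗ₜ[K] x) := by
  classical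
  have hjinj : Function.Injective (coeffMap (algebraMap K D.N)) :=
    AddMonoidAlgebra.map_injective (algebraMap K D.N : K →+ D.N) (algebraMap K D.N).injective
  have hmem : ∀ x : A, D.lamN l ((1 : D.N) ⊗ₜ[K] x) ∈ (coeffMap (algebraMap K D.N)).range := fun x => by
    set y := D.lamN l ((1 : D.N) ⊗ₜ[K] x) with hy
    have hfix : ∀ σ : D.N ≃ₐ[K] D.N, coeffMap σ.toAlgHom.toRingHom y = y := fun σ => by
      rw [hy, ← D.lamN_bcMap l hl]
      simp [bcMap]
    have hc : ∀ j, ∃ c : K, algebraMap K D.N c = y.coeff j := fun j => by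
      refine IntermediateField.mem_bot.1 ((IsGalois.mem_bot_iff_fixed _).2 fun σ => ?_)
      conv_rhs => rw [← hfix σ]
      simp [coeffMap]
    choose c hc using hc
    refine ⟨∑ j ∈ y.coeff.support, LaurentPolynomial.C (c j) * LaurentPolynomial.T j, ?_⟩
    rw [map_sum]
    simp only [coeffMap_C_mul_T, hc]
    simp only [← LaurentPolynomial.single_eq_C_mul_T]
    exact AddMonoidAlgebra.sum_coeff_single y
  choose ψ hψ using hmem
  refine ⟨{ toFun := ψ
            map_one' := hjinj (by rw [hψ, map_one, ← Algebra.TensorProduct.one_def, map_one])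
            map_mul' := fun a b => hjinj (by rw [hψ, map_mul, hψ, hψ, ← map_mul, Algebra.TensorProduct.tmul_mul_tmul, _root_.one_mul])
            map_zero' := hjinj (by rw [hψ, TensorProduct.tmul_zero, map_zero, map_zero])
            map_add' := fun a b => hjinj (by rw [hψ, map_add, hψ, hψ, TensorProduct.tmul_add, map_add])
            commutes' := fun c => hjinj (by
              rw [hψ, Algebra.algebraMap_eq_smul_one, TensorProduct.tmul_smul, ← algebraMap_smul D.N c, map_smul,
                ← Algebra.TensorProduct.one_def, map_one, LaurentPolynomial.smul_eq_C_mul, _root_.mul_one]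
              rw [LaurentPolynomial.algebraMap_apply, Algebra.algebraMap_self_apply, ← _root_.mul_one (LaurentPolynomial.C c),
                ← LaurentPolynomial.T_zero, coeffMap_C_mul_T, LaurentPolynomial.T_zero, _root_.mul_one]) }, hψ⟩

include hl in
theorem exists_mono (T : Over (Spec (CommRingCat.of K))) [GrpObj T]
    (e : (Spec (CommRingCat.of A)).asOver (Spec (CommRingCat.of K)) ≅ T) [IsMonHom e.hom]
    (hsurj : Function.Surjective l) : ∃ i : Red.Gm (Spec (CommRingCat.of K)) ⟶ T, IsMonHom i ∧ Mono i := by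
  classical
  obtain ⟨ψ, hψ⟩ := D.exists_descended l hl
  have hψsurj : Function.Surjective ψ := by
    rw [← AlgHom.coe_toLinearMap, ← LinearMap.range_eq_top]
    by_contra hne
    obtain ⟨g, hg0, hg⟩ := Submodule.exists_dual_map_eq_bot_of_lt_top (lt_top_iff_ne_top.2 hne) inferInstance
    apply hg0
    let G : LaurentPolynomial D.N →ₗ[D.N] D.N :=
      (Finsupp.linearCombination D.N fun j => algebraMap K D.N (g (LaurentPolynomial.T j))) ∘ₗ
        (AddMonoidAlgebra.coeffLinearEquiv D.N).toLinearMap
    have hG : ∀ p, G (coeffMap (algebraMap K D.N) p) = algebraMap K D.N (g p) := fun p => by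
      induction p using AddMonoidAlgebra.induction_linear with
      | zero => simp
      | add x y hx hy => simp only [map_add, hx, hy]
      | single j a =>
        rw [LaurentPolynomial.single_eq_C_mul_T, coeffMap_C_mul_T, ← LaurentPolynomial.smul_eq_C_mul (algebraMap K D.N a),
          ← LaurentPolynomial.smul_eq_C_mul a, map_smul, map_smul, smul_eq_mul, smul_eq_mul, map_mul]
        simp only [G, LinearMap.comp_apply, LinearEquiv.coe_coe]
        erw [show (AddMonoidAlgebra.coeffLinearEquiv (S := D.N) D.N (M := ℤ)) (LaurentPolynomial.T j) = Finsupp.single j (1 : D.N) from rfl]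
        simp
    have hG0 : ∀ z, G (D.lamN l z) = 0 := fun z => by
      induction z using TensorProduct.induction_on with
      | zero => simp
      | add x y hx hy => simp only [map_add, hx, hy, add_zero]
      | tmul t x =>
        have hgx : g (ψ x) = 0 := by
          have : g (ψ x) ∈ (LinearMap.range ψ.toLinearMap).map g := ⟨ψ x, ⟨x, rfl⟩, rfl⟩
          rwa [hg, Submodule.mem_bot] at this
        rw [show t ⊗ₜ[K] x = t • ((1 : D.N) ⊗ₜ[K] x) by simp [TensorProduct.smul_tmul'], map_smul, map_smul, ← hψ, hG,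
          hgx, map_zero, smul_zero]
    refine LinearMap.ext fun p => ?_
    induction p using AddMonoidAlgebra.induction_linear with
    | zero => simp
    | add x y hx hy => simp only [map_add, hx, hy]
    | single j a =>
      obtain ⟨m, hm⟩ := hsurj j
      have h2 := hG0 (D.φ (Multiplicative.ofAdd m))
      have hT := coeffMap_C_mul_T (algebraMap K D.N) 1 j
      simp only [map_one, _root_.one_mul] at hT
      rw [lamN_φ, hm, ← hT, hG, map_eq_zero_iff _ (algebraMap K D.N).injective] at h2
      rw [LaurentPolynomial.single_eq_C_mul_T, ← LaurentPolynomial.smul_eq_C_mul, map_smul, h2, smul_zero]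
      rfl
  let pt : ∀ {X : Over (Spec (CommRingCat.of K))}, (Γ(X.left, ⊤))ˣ → WithConv (A →ₐ[K] Γ(X.left, ⊤)) := fun {X} v =>
    toConv (AlgHom.mk ((LaurentPolynomial.eval₂ (algebraMap K Γ(X.left, ⊤)) v).comp ψ.toRingHom) fun c => by
      simp [LaurentPolynomial.algebraMap_apply])
  have pt_mul : ∀ {X : Over (Spec (CommRingCat.of K))} (v w : (Γ(X.left, ⊤))ˣ), pt (v * w) = pt v * pt w := fun {X} v w => by
    let R := Γ(X.left, ⊤)
    let RN := D.N ⊗[K] R
    let inc : R →ₐ[K] RN := Algebra.TensorProduct.includeRight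
    have hinc : Function.Injective inc := Algebra.TensorProduct.includeRight_injective (algebraMap K D.N).injective
    let E : (R)ˣ → (D.N ⊗[K] A →ₐ[D.N] RN) := fun v => Algebra.TensorProduct.lift (Algebra.ofId D.N RN) (inc.comp (pt v).ofConv) fun _ _ => Commute.all _ _
    let evN : (R)ˣ → (LaurentPolynomial D.N →+* RN) := fun v => LaurentPolynomial.eval₂ (algebraMap D.N RN) (Units.map inc.toMonoidHom v)
    have hev : ∀ v p, inc (LaurentPolynomial.eval₂ (algebraMap K R) v p) = evN v (coeffMap (algebraMap K D.N) p) := fun v p => by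
      induction p using AddMonoidAlgebra.induction_linear with
      | zero => simp
      | add x y hx hy => simp only [map_add, hx, hy]
      | single j a =>
        rw [LaurentPolynomial.single_eq_C_mul_T, coeffMap_C_mul_T, map_mul, map_mul, map_mul, LaurentPolynomial.eval₂_C,
          LaurentPolynomial.eval₂_T, LaurentPolynomial.eval₂_C, LaurentPolynomial.eval₂_T, AlgHom.commutes,
          ← IsScalarTower.algebraMap_apply K D.N RN, ← map_zpow]
        rfl
    have hE : ∀ v z, E v z = evN v (D.lamN l z) := fun v z => by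
      induction z using TensorProduct.induction_on with
      | zero => simp
      | add x y hx hy => simp only [map_add, hx, hy]
      | tmul t x =>
        rw [show t ⊗ₜ[K] x = t • ((1 : D.N) ⊗ₜ[K] x) by simp [TensorProduct.smul_tmul'], map_smul, map_smul, ← hψ,
          LaurentPolynomial.smul_eq_C_mul, map_mul, LaurentPolynomial.eval₂_C, ← hev, Algebra.smul_def]
        congr 1
        show Algebra.TensorProduct.lift (Algebra.ofId D.N RN) (inc.comp (pt v).ofConv) (fun _ _ => Commute.all _ _) ((1 : D.N) ⊗ₜ[K] x) = _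
        rw [Algebra.TensorProduct.lift_tmul, map_one, _root_.one_mul]
        rfl
    have key : E (v * w) = (Algebra.TensorProduct.lift (E v) (E w) fun _ _ => Commute.all _ _).comp (Bialgebra.comulAlgHom D.N (D.N ⊗[K] A)) := by
      refine AlgHom.ext fun z => ?_
      obtain ⟨p, rfl⟩ := D.bij.2 z
      induction p using MonoidAlgebra.induction_linear with
      | zero => simp
      | add x y hx hy => simp only [map_add, hx, hy]
      | single m r =>
        obtain ⟨m, rfl⟩ := Multiplicative.ofAdd.surjective m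
        rw [MonoidAlgebra.lift_single, map_smul, map_smul]
        congr 1
        show E (v * w) _ = Algebra.TensorProduct.lift (E v) (E w) (fun _ _ => Commute.all _ _) (Coalgebra.comul (R := D.N) _)
        rw [(D.groupLike _).comul_eq_tmul_self, Algebra.TensorProduct.lift_tmul, hE, hE, hE, lamN_φ]
        simp only [evN, LaurentPolynomial.eval₂_T, map_mul, mul_zpow, Units.val_mul]
    apply WithConv.ofConv_injective
    refine AlgHom.ext fun x => hinc ?_
    have h1 : ∀ v, inc ((pt v).ofConv x) = E v ((1 : D.N) ⊗ₜ[K] x) := fun v => by simp [E]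
    rw [h1, key, AlgHom.convMul_apply]
    show Algebra.TensorProduct.lift (E v) (E w) (fun _ _ => Commute.all _ _) (Coalgebra.comul (R := D.N) ((1 : D.N) ⊗ₜ[K] x)) = _
    rw [TensorProduct.comul_tmul, CommSemiring.comul_apply]
    generalize Coalgebra.comul (R := K) x = q
    induction q using TensorProduct.induction_on with
    | zero => simp
    | add x y hx hy => simp only [TensorProduct.tmul_add, map_add, hx, hy]
    | tmul x y => simp [E]
  let u : ∀ {X : Over (Spec (CommRingCat.of K))}, (X ⟶ Red.Gm (Spec (CommRingCat.of K))) → (Γ(X.left, ⊤))ˣ := fun {X} z => (RedPts.gm_isUnit z).unit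
  let ψS : GaGm.specK (K := K) (LaurentPolynomial K) ⟶ (Spec (CommRingCat.of A)).asOver (Spec (CommRingCat.of K)) :=
    Over.homMk (Spec.map (CommRingCat.ofHom ψ.toRingHom)) (by
      show Spec.map _ ≫ Spec.map _ = Spec.map _
      rw [← Spec.map_comp, ← CommRingCat.ofHom_comp]
      exact congrArg (fun t => Spec.map (CommRingCat.ofHom t)) ψ.comp_algebraMap)
  let i := GaGm.toM (K := K) ≫ ψS ≫ e.hom
  have hi : ∀ {X : Over (Spec (CommRingCat.of K))} (z : X ⟶ Red.Gm (Spec (CommRingCat.of K))),
      z ≫ i = ptHom X (pt (u z)) ≫ e.hom := fun {X} z => by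
    rw [← Category.assoc, ← Category.assoc, cancel_mono]
    obtain ⟨f, hf⟩ := ptHom_surjective (A := A) X ((z ≫ GaGm.toM) ≫ ψS)
    rw [← hf]
    congr 1
    refine WithConv.ofConv_injective (AlgHom.ext fun a => ?_)
    have h1 := congr($(ptHom_appTop X f) a)
    rw [hf] at h1
    refine h1.symm.trans ?_
    show ((z ≫ GaGm.toM) ≫ ψS).left.appTop (GaGm.fnB (K := K) A a) = LaurentPolynomial.eval₂ (algebraMap K Γ(X.left, ⊤)) (u z) (ψ a)
    have h2 : ψS.left.appTop (GaGm.fnB (K := K) A a) = GaGm.fnB (K := K) (LaurentPolynomial K) (ψ a) :=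
      congr($(Scheme.ΓSpecIso_inv_naturality (CommRingCat.ofHom ψ.toRingHom)) a).symm
    show z.left.appTop ((GaGm.toM (K := K)).left.appTop (ψS.left.appTop (GaGm.fnB (K := K) A a))) = _
    rw [h2]
    rw [GaGm.toM, GaGm.toP_appTop]
    generalize ψ a = p
    induction p using AddMonoidAlgebra.induction_linear with
    | zero => simp
    | add x y hx hy => simp only [map_add, hx, hy]
    | single j c =>
      rw [LaurentPolynomial.single_eq_C_mul_T]
      simp only [map_mul, LaurentPolynomial.eval₂_C, LaurentPolynomial.eval₂_T]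
      congr 1
      · exact (GaGm.appTop_sc z c).trans rfl
      · have hu : Units.map z.left.appTop.hom.toMonoidHom (GaGm.tM_unit (K := K)).unit = u z :=
          Units.ext ((GaGm.gm_fn z).trans rfl)
        rw [← hu, ← map_zpow]
        rfl
  have hu_mul : ∀ {X : Over (Spec (CommRingCat.of K))} (x y : X ⟶ Red.Gm (Spec (CommRingCat.of K))), u (x * y) = u x * u y := fun x y =>
    Units.ext (RedPts.gm_mul x y)
  have hm : ∀ {X : Over (Spec (CommRingCat.of K))} (x y : X ⟶ Red.Gm (Spec (CommRingCat.of K))), (x * y) ≫ i = (x ≫ i) * (y ≫ i) := fun x y => by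
    rw [hi, hi, hi, hu_mul, pt_mul, ptHom_mul, MonObj.mul_comp]
  haveI : IsMonHom i := by
    refine ⟨?_, ?_⟩
    · rw [MonObj.one_eq_one, MonObj.one_eq_one]
      exact (MonoidHom.mk' (fun z : 𝟙_ (Over (Spec (CommRingCat.of K))) ⟶ Red.Gm (Spec (CommRingCat.of K)) => z ≫ i) hm).map_one
    · rw [MonObj.mul_eq_mul, MonObj.mul_eq_mul, MonObj.comp_mul, tensorHom_fst, tensorHom_snd, hm]
  refine ⟨i, inferInstance, ?_⟩
  haveI : IsClosedImmersion ψS.left := IsClosedImmersion.spec_of_surjective _ hψsurj
  haveI : Mono ψS.left := inferInstance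
  haveI : Mono ψS := (Over.forget _).mono_of_mono_map (f := ψS) ‹Mono ψS.left›
  haveI : IsIso (GaGm.toM (K := K)) := ⟨GaGm.ofM, GaGm.toM_ofM, GaGm.ofM_toM⟩
  infer_instance

end Mono

end GalData

end Groth.Agent.TorusFld
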